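import Mathlib
import Cfsg.Agent.Lib.Helper33.Breadth.Defs

/-!
# S3777 project "BREADTH": package [C1] (case `C' ≠ G'`)
-/

set_option autoImplicit false

namespace Cfsg.Agent.Lib.Helper84.Breadth

open Cfsg.Agent.Lib.Helper33.Breadth
open scoped commutatorElement

universe u

theorem pkgCase1 (hNorm : PkgNorm.{u}) (hTwo : PkgTwoMax.{u}) : PkgCase1.{u} := by
  intro G _ _ p _ hG C hC hne
  have hp : p.Prime := Fact.out
  haveI hCn : C.Normal := hNorm p hG C hC
  obtain ⟨K, hKdef⟩ : ∃ K : Subgroup G, K = ⁅C, C⁆ := ⟨_, rfl⟩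
  haveI hKn : K.Normal := by rw [hKdef]; infer_instance
  have hKle : K ≤ commutator G := by
    rw [hKdef, commutator_def]; exact Subgroup.commutator_mono le_top le_top
  have hCC : ∀ c ∈ C, ∀ c' ∈ C,
      Commute ((QuotientGroup.mk' K) c) ((QuotientGroup.mk' K) c') := by
    intro c hc c' hc'
    have h : ⁅c, c'⁆ ∈ K := by rw [hKdef]; exact Subgroup.commutator_mem_commutator hc hc'
    have h1 : ⁅(QuotientGroup.mk' K) c, (QuotientGroup.mk' K) c'⁆ = 1 := by
      rw [← map_commutatorElement]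
      exact (QuotientGroup.eq_one_iff _).mpr h
    exact commutatorElement_eq_one_iff_commute.mp h1
  have habel : (∀ a b : G, Commute ((QuotientGroup.mk' K) a) ((QuotientGroup.mk' K) b)) →
      False := by
    intro hab
    apply hne
    rw [← hKdef]
    apply le_antisymm hKle
    rw [commutator_def, Subgroup.commutator_le]
    intro a _ b _
    have h1 := commutatorElement_eq_one_iff_commute.mpr (hab a b)
    rw [← map_commutatorElement] at h1
    exact (QuotientGroup.eq_one_iff _).mp h1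
  have hgen : ∀ m : G, m ∉ C → ∀ g : G, ∃ i : ℤ, ∃ c ∈ C, g = m ^ i * c := by
    intro m hm g
    have hcard : Nat.card (G ⧸ C) = p := by rw [← Subgroup.index_eq_card]; exact hC
    have hm1 : (QuotientGroup.mk m : G ⧸ C) ≠ 1 := by
      intro h; exact hm ((QuotientGroup.eq_one_iff m).mp h)
    have hmem : (QuotientGroup.mk g : G ⧸ C) ∈ Subgroup.zpowers (QuotientGroup.mk m : G ⧸ C) :=
      mem_zpowers_of_prime_card hcard hm1
    obtain ⟨i, hi⟩ := Subgroup.mem_zpowers_iff.mp hmem
    refine ⟨i, (m ^ i)⁻¹ * g, ?_, by group⟩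
    rw [← QuotientGroup.mk_zpow] at hi
    exact QuotientGroup.eq.mp hi
  obtain ⟨Z, hZdef⟩ : ∃ Z : Subgroup G,
      Z = (Subgroup.center (G ⧸ K)).comap (QuotientGroup.mk' K) := ⟨_, rfl⟩
  have hZmem : ∀ z, z ∈ Z ↔ ∀ q : G ⧸ K, Commute ((QuotientGroup.mk' K) z) q := by
    intro z
    rw [hZdef, Subgroup.mem_comap, Subgroup.mem_center_iff]
    constructor
    · intro h q; exact (h q).symm
    · intro h q; exact (h q).symm
  haveI hZn : Z.Normal := by rw [hZdef]; infer_instance
  have hZC : Z ≤ C := by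
    intro z hz
    by_contra hzC
    apply habel
    intro a b
    obtain ⟨i, c, hc, rfl⟩ := hgen z hzC a
    obtain ⟨j, c', hc', rfl⟩ := hgen z hzC b
    have hzc := (hZmem z).mp hz
    simp only [map_mul, map_zpow]
    have h1 : ∀ q : G ⧸ K, Commute ((QuotientGroup.mk' K) z ^ i) q :=
      fun q => (hzc q).zpow_left i
    have h2 : ∀ q : G ⧸ K, Commute ((QuotientGroup.mk' K) z ^ j) q :=
      fun q => (hzc q).zpow_left j
    exact (h1 _).mul_left ((h2 _).symm.mul_right (hCC c hc c' hc'))
  have hncyc : ¬ IsCyclic (G ⧸ Z) := by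
    intro hcyc
    obtain ⟨w', hw'⟩ := hcyc.exists_generator
    obtain ⟨w, rfl⟩ := QuotientGroup.mk_surjective w'
    have hgenZ : ∀ g : G, ∃ i : ℤ, ∃ z ∈ Z, g = w ^ i * z := by
      intro g
      obtain ⟨i, hi⟩ := Subgroup.mem_zpowers_iff.mp (hw' (QuotientGroup.mk g))
      refine ⟨i, (w ^ i)⁻¹ * g, ?_, by group⟩
      rw [← QuotientGroup.mk_zpow] at hi
      exact QuotientGroup.eq.mp hi
    apply habel
    intro a b
    obtain ⟨i, z, hz, rfl⟩ := hgenZ a
    obtain ⟨j, z', hz', rfl⟩ := hgenZ b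
    have hzc := (hZmem z).mp hz
    have hzc' := (hZmem z').mp hz'
    simp only [map_mul, map_zpow]
    have hww : Commute ((QuotientGroup.mk' K) w ^ i) ((QuotientGroup.mk' K) w ^ j) :=
      (Commute.refl _).zpow_zpow i j
    exact (hww.mul_right (hzc' _).symm).mul_left (hzc _)
  have hPQ : IsPGroup p (G ⧸ Z) := hG.to_quotient Z
  have hDidx : (C.map (QuotientGroup.mk' Z)).index = p := by
    rw [Subgroup.index_map_eq C (QuotientGroup.mk'_surjective Z)
      (by rw [QuotientGroup.ker_mk']; exact hZC)]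
    exact hC
  obtain ⟨Mb, hMb, hMbne⟩ := hTwo p hPQ hncyc (C.map (QuotientGroup.mk' Z)) hDidx
  have hZM : Z ≤ Mb.comap (QuotientGroup.mk' Z) := by
    intro z hz
    rw [Subgroup.mem_comap]
    have h1 : (QuotientGroup.mk' Z) z = 1 := (QuotientGroup.eq_one_iff z).mpr hz
    rw [h1]
    exact Subgroup.one_mem _
  refine ⟨Mb.comap (QuotientGroup.mk' Z), ?_, ?_, ?_⟩
  · rw [Subgroup.index_comap_of_surjective Mb (QuotientGroup.mk'_surjective Z)]
    exact hMb
  · intro hEq
    apply hMbne
    rw [← hEq, Subgroup.map_comap_eq_self_of_surjective (QuotientGroup.mk'_surjective Z)]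
  · intro m hm hmC x hx
    have hxm : m * x = x * m := (Subgroup.mem_centralizer_iff.mp hx) m (Set.mem_singleton m)
    obtain ⟨i, c, hc, rfl⟩ := hgen m hmC x
    apply Subgroup.mul_mem _ (Subgroup.zpow_mem _ hm i)
    apply hZM
    rw [hZmem]
    intro q
    obtain ⟨g, rfl⟩ := QuotientGroup.mk'_surjective K q
    obtain ⟨j, c', hc', rfl⟩ := hgen m hmC g
    have hcm : Commute c m := by
      show c * m = m * c
      have h1 : m ^ i * (m * c) = m ^ i * (c * m) := by
        calc m ^ i * (m * c) = m * (m ^ i * c) := by group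
          _ = m ^ i * c * m := hxm
          _ = m ^ i * (c * m) := by group
      exact (mul_left_cancel h1).symm
    simp only [map_mul, map_zpow]
    have hcm' : Commute ((QuotientGroup.mk' K) c) ((QuotientGroup.mk' K) m) :=
      hcm.map (QuotientGroup.mk' K)
    exact (hcm'.zpow_right j).mul_right (hCC c hc c' hc')

end Cfsg.Agent.Lib.Helper84.Breadth
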